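import Groth.Agent.FormalFlatEquivLib.Main

/-!
# Coherent formal modules along a flat morphism which is an isomorphism on the closed locus
-/

set_option autoImplicit false
set_option linter.style.haveILetI false
set_option backward.isDefEq.respectTransparency false
set_option backward.isDefEq.respectTransparency.types false
set_option maxHeartbeats 800000

universe u

open CategoryTheory CategoryTheory.Limits AlgebraicGeometry TopologicalSpace Opposite

noncomputable section

namespace FormalFlatEquivLib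

variable {A : Type u} [CommRing A] {I : Ideal A} {X X' : Scheme.{u}} [X.Over (Spec (CommRingCat.of A))]
  [X'.Over (Spec (CommRingCat.of A))] {f : X' ⟶ X}

local notation "adj" => Scheme.Modules.pullbackPushforwardAdjunction f

theorem bijective_map (h : FlatIso I f) {M N : X.Modules} {m : ℕ} (hN : Formal.KilledBy (I ^ m) N) :
    Function.Bijective fun φ : M ⟶ N => (Scheme.Modules.pullback f).map φ := by
  haveI := isIso_unit h hN
  have he : ∀ φ : M ⟶ N, (adj).homEquiv M _ ((Scheme.Modules.pullback f).map φ) = φ ≫ (adj).unit.app N := fun φ => by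
    rw [Adjunction.homEquiv_unit]
    exact ((adj).unit.naturality φ).symm
  refine ⟨fun φ ψ hφ => ?_, fun g => ⟨(adj).homEquiv M _ g ≫ inv ((adj).unit.app N), ?_⟩⟩
  · have := (he φ).symm.trans ((congrArg ((adj).homEquiv M _) hφ).trans (he ψ))
    exact (cancel_mono ((adj).unit.app N)).1 this
  · refine ((adj).homEquiv M _).injective ?_
    rw [he, Category.assoc, IsIso.inv_hom_id]
    exact Category.comp_id _

theorem nat_ext {C : Type*} [Category C] {F G : ℕᵒᵖ ⥤ C} {α β : F ⟶ G} (h : ∀ n, α.app (op n) = β.app (op n)) :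
    α = β :=
  NatTrans.ext (funext fun ⟨n⟩ => h n)

theorem bijective_whisker (h : FlatIso I f) {G₁ G₂ : ℕᵒᵖ ⥤ X.Modules} (h₂ : Formal.IsCohFormal I G₂) :
    Function.Bijective fun φ : G₁ ⟶ G₂ => Functor.whiskerRight φ (Scheme.Modules.pullback f) := by
  have hb := fun n : ℕᵒᵖ => bijective_map h (M := G₁.obj n) (h₂.2.1 n.unop)
  refine ⟨fun φ ψ hφ => nat_ext fun n => (hb (op n)).1 (congr_app hφ (op n)), fun α => ?_⟩
  choose g hg using fun n : ℕᵒᵖ => (hb n).2 (α.app n)
  refine ⟨{ app := g, naturality := fun a b e => (bijective_map h (M := G₁.obj a) (h₂.2.1 b.unop)).1 ?_ }, nat_ext fun n => hg (op n)⟩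
  show (Scheme.Modules.pullback f).map _ = (Scheme.Modules.pullback f).map _
  rw [Functor.map_comp, Functor.map_comp]
  refine (congrArg (_ ≫ ·) (hg b)).trans ((α.naturality e).trans ?_)
  exact (congrArg (· ≫ _) (hg a)).symm

/-- Essential surjectivity. -/
theorem exists_preimage [IsNoetherian X] [IsNoetherian X'] (h : FlatIso I f) {G' : ℕᵒᵖ ⥤ X'.Modules}
    (hG : Formal.IsCohFormal I G') :
    ∃ G : ℕᵒᵖ ⥤ X.Modules, Formal.IsCohFormal I G ∧ Nonempty (G ⋙ Scheme.Modules.pullback f ≅ G') := by
  let F := Scheme.Modules.pullback f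
  let R := Scheme.Modules.pushforward f
  haveI : F.IsLeftAdjoint := (adj).isLeftAdjoint
  haveI hco : ∀ n : ℕᵒᵖ, IsIso ((adj).counit.app (G'.obj n)) := fun n => isIso_counit h (hG.2.1 n.unop)
  let e : (G' ⋙ R) ⋙ F ≅ G' :=
    NatIso.ofComponents (fun n => asIso ((adj).counit.app (G'.obj n))) fun g => (adj).counit.naturality (G'.map g)
  refine ⟨G' ⋙ R, ⟨fun n => isCoh_push h (hG.1 n) (hG.2.1 n), fun n => killedBy_push f h.comm (hG.2.1 n),
    fun n => ?_⟩, ⟨e⟩⟩
  let t := G'.map (homOfLE (Nat.le_succ n)).op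
  obtain ⟨hw', hiso⟩ := hG.2.2 n
  let P := G'.obj (op (n + 1))
  have hw : Formal.smulFamily (I ^ (n + 1)) (R.obj P) ≫ R.map t = 0 :=
    Formal2VBLib.smulFamily_comp_eq_zero _ _ fun a ha => by
      rw [← FormalPullLib.pushforward_smulMod f h.comm, ← R.map_comp]
      have e1 : Formal.smulMod A P a ≫ t = 0 := by
        have e2 : Sigma.ι (fun _ : ↥(I ^ (n + 1)) => P) ⟨a, ha⟩ ≫ Formal.smulFamily (I ^ (n + 1)) P =
            Formal.smulMod A P a :=
          Sigma.ι_desc (fun b : ↥(I ^ (n + 1)) => Formal.smulMod A P (b : A)) ⟨a, ha⟩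
        rw [← e2, Category.assoc, hw', comp_zero]
      rw [e1, Functor.map_zero]
  refine ⟨hw, ?_⟩
  let sR := Formal.smulFamily (I ^ (n + 1)) (R.obj P)
  let Q := cokernel sR
  let d : Q ⟶ R.obj (G'.obj (op n)) := cokernel.desc sR (R.map t) hw
  have hQ : Formal.KilledBy (I ^ (n + 1)) Q := fun a ha => by
    refine (cancel_epi (cokernel.π sR)).1 ?_
    rw [comp_zero, Formal.smulMod, ← Formal2VBLib.smulModΓ_naturality]
    exact Formal2VBLib.smul_modPowπ I (n + 1) (R.obj P) ha
  -- the inverse after pull-back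
  let ε := (adj).counit.app P
  haveI : IsIso ε := hco _
  have hb : Formal.smulFamily (I ^ (n + 1)) P ≫ inv ε ≫ F.map (cokernel.π sR) = 0 :=
    Formal2VBLib.smulFamily_comp_eq_zero _ _ fun a ha => by
      rw [← Category.assoc, Formal.smulMod, Formal2VBLib.smulModΓ_naturality, Category.assoc,
        Formal2VBLib.smulModΓ_naturality]
      rw [show Formal.smulModΓ (F.obj (cokernel sR)) (Coh.toGlobal (X' ↘ Spec (CommRingCat.of A)) a) = 0 from
        killedBy_pull f h.comm hQ a ha, comp_zero, comp_zero]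
  haveI : IsIso (cokernel.desc _ _ hw') := hiso
  have ht : cokernel.π (Formal.smulFamily (I ^ (n + 1)) P) ≫ cokernel.desc _ _ hw' = t := cokernel.π_desc _ _ _
  haveI hFd : IsIso (F.map d) := by
    let v := inv (cokernel.desc _ _ hw') ≫ cokernel.desc _ _ hb
    have htv : t ≫ v = inv ε ≫ F.map (cokernel.π sR) := by
      rw [← ht, Category.assoc, IsIso.hom_inv_id_assoc, cokernel.π_desc]
    have hd : F.map (cokernel.π sR) ≫ F.map d = F.map (R.map t) := by rw [← F.map_comp, cokernel.π_desc]
    have hnat : F.map (R.map t) ≫ (adj).counit.app (G'.obj (op n)) = ε ≫ t := (adj).counit.naturality t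
    haveI : IsIso ((adj).counit.app (G'.obj (op n))) := hco _
    haveI : Epi t := ht ▸ (@epi_comp _ _ _ _ _ (cokernel.π _) coequalizer.π_epi _ (@IsIso.epi_of_iso _ _ _ _ _ hiso))
    haveI : Epi (F.map (R.map t)) := by
      have : F.map (R.map t) = (ε ≫ t) ≫ inv ((adj).counit.app (G'.obj (op n))) := by
        rw [← hnat, Category.assoc, IsIso.hom_inv_id, Category.comp_id]
      rw [this]
      infer_instance
    refine ⟨(adj).counit.app (G'.obj (op n)) ≫ v, ?_, ?_⟩
    · refine (cancel_epi (F.map (cokernel.π sR))).1 ?_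
      rw [← Category.assoc, hd, ← Category.assoc, hnat, Category.assoc, htv, IsIso.hom_inv_id_assoc, Category.comp_id]
    · refine (cancel_epi (F.map (R.map t))).1 ?_
      rw [Category.assoc, ← Category.assoc, hnat, Category.assoc, ← Category.assoc t, htv, Category.assoc, hd,
        IsIso.hom_inv_id_assoc, Category.comp_id]
  haveI := isIso_unit h hQ
  haveI := isIso_unit h (killedBy_push f h.comm (hG.2.1 n))
  have hn : d = ((adj).unit.app Q ≫ R.map (F.map d)) ≫ inv ((adj).unit.app (R.obj (G'.obj (op n)))) := by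
    rw [show (adj).unit.app Q ≫ R.map (F.map d) = d ≫ (adj).unit.app (R.obj (G'.obj (op n))) from
      ((adj).unit.naturality d).symm, Category.assoc, IsIso.hom_inv_id, Category.comp_id]
  show IsIso d
  rw [hn]
  infer_instance

end FormalFlatEquivLib
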