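import Groth.Agent.FormalPullLib.Basic
import Groth.Agent.FormalCohLib.ClosedAlg
import Groth.Agent.FormalEqLib.Basic
import Groth.Agent.DiagTorLib.Mult
import Groth.Agent.MiscFlat6.FreeStalks
import Groth.Agent.FLILib.Stalks
import Groth.Agent.QCohLib.Push
import Groth.Agent.S2297

/-!
# Modules killed by a power of an ideal, along a flat morphism which is an isomorphism on the closed locus
-/

set_option autoImplicit false
set_option linter.style.haveILetI false
set_option linter.unusedSectionVars false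
set_option backward.isDefEq.respectTransparency false
set_option backward.isDefEq.respectTransparency.types false
set_option maxHeartbeats 800000

universe u

open CategoryTheory CategoryTheory.Limits AlgebraicGeometry TopologicalSpace Opposite PrimeSpectrum
open ProjFormLib (ger res ger_res ger_smul ger_add ger_map exists_ger)
open CohCmpLib (stk)
open scoped TensorProduct

noncomputable section

namespace FormalFlatEquivLib

/-- An additive subgroup stable under `R` is stable under `S` when `S = R + φ(a)S` and `a^m` kills. -/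
theorem smul_mem_of_killed {R S N : Type u} [CommRing R] [CommRing S] [AddCommGroup N] [Module S N] (φ : R →+* S)
    (a : Ideal R) (hsur : ∀ s : S, ∃ r, s - φ r ∈ a.map φ) (T : AddSubgroup N)
    (hT : ∀ (r : R), ∀ t ∈ T, φ r • t ∈ T) :
    ∀ (j : ℕ) (t : N), t ∈ T → (∀ r ∈ a ^ j, φ r • t = 0) → ∀ s : S, s • t ∈ T := by
  intro j
  induction j with
  | zero =>
    intro t _ h0 s
    have h1 := h0 1 (by simp)
    rw [map_one, one_smul] at h1
    rw [h1, smul_zero]
    exact T.zero_mem
  | succ j ih =>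
    intro t ht hk s
    obtain ⟨r, hr⟩ := hsur s
    have h2 : ∀ x ∈ a.map φ, x • t ∈ T := fun x hx => by
      induction hx using Submodule.span_induction with
      | mem x hx =>
        obtain ⟨i, hi, rfl⟩ := hx
        exact hT i t ht
      | zero => rw [zero_smul]; exact T.zero_mem
      | add x y _ _ hx hy => rw [add_smul]; exact T.add_mem hx hy
      | smul c x hx' _ =>
        have h3 : ∀ (c : S) (x : S), x ∈ a.map φ → (c * x) • t ∈ T := fun c x hx => by
          induction hx using Submodule.span_induction generalizing c with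
          | mem x hx =>
            obtain ⟨i, hi, rfl⟩ := hx
            rw [mul_smul]
            refine ih (φ i • t) (hT i t ht) (fun r hr => ?_) c
            rw [← mul_smul, ← map_mul]
            exact hk _ (by rw [pow_succ]; exact Ideal.mul_mem_mul hr hi)
          | zero => rw [mul_zero, zero_smul]; exact T.zero_mem
          | add x y _ _ hx hy => rw [mul_add, add_smul]; exact T.add_mem (hx c) (hy c)
          | smul d x _ hx => rw [smul_eq_mul, ← mul_assoc]; exact hx (c * d)
        exact h3 c x hx'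
    rw [← sub_add_cancel s (φ r), add_smul]
    exact T.add_mem (h2 _ hr) (hT r t ht)

/-- `m ↦ 1 ⊗ m` is bijective on modules killed by a power of the ideal. -/
theorem bijective_mk_one {R S M : Type u} [CommRing R] [CommRing S] [Algebra R S] [Module.FaithfullyFlat R S]
    [AddCommGroup M] [Module R M] (a : Ideal R) (hsur : ∀ s : S, ∃ r, s - algebraMap R S r ∈ a.map (algebraMap R S))
    (m : ℕ) (hk : ∀ r ∈ a ^ m, ∀ x : M, r • x = 0) :
    Function.Bijective fun x : M => (1 : S) ⊗ₜ[R] x := by
  refine ⟨Module.FaithfullyFlat.tensorProduct_mk_injective M, fun z => ?_⟩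
  let T : AddSubgroup (S ⊗[R] M) := ((TensorProduct.mk R S M 1).toAddMonoidHom).range
  have hz : z ∈ T := by
    induction z using TensorProduct.induction_on with
    | zero => exact T.zero_mem
    | tmul s x =>
      have h := smul_mem_of_killed (algebraMap R S) a hsur T (fun r t ht => by
        obtain ⟨y, rfl⟩ := ht
        exact ⟨r • y, (TensorProduct.tmul_smul r (1 : S) y).trans (algebraMap_smul S r _).symm⟩)
        m ((1 : S) ⊗ₜ x) ⟨x, rfl⟩ (fun r hr => by
          rw [algebraMap_smul, ← TensorProduct.tmul_smul, hk r hr, TensorProduct.tmul_zero]) s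
      rwa [TensorProduct.smul_tmul', smul_eq_mul, mul_one] at h
    | add a b ha hb => exact T.add_mem ha hb
  exact hz

variable {A : Type u} [CommRing A] {I : Ideal A}

section Stalk

variable {X : Scheme.{u}} [X.Over (Spec (CommRingCat.of A))]

variable (I X) in
/-- The locus of the ideal. -/
def locus : Set X := (fun x : X => (X ↘ Spec (CommRingCat.of A)) x) ⁻¹' PrimeSpectrum.zeroLocus (I : Set A)

theorem isClosed_locus : IsClosed (locus I X) :=
  (PrimeSpectrum.isClosed_zeroLocus _).preimage (X ↘ Spec (CommRingCat.of A)).continuous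

theorem stalk_killed {N : X.Modules} {J : Ideal A} (h : Formal.KilledBy J N) {a : A} (ha : a ∈ J) (x : X)
    (v : stk N x) : Formal2VBLib.stalkHom A x a • v = 0 := by
  refine (Formal2VBLib.stalk_smulModΓ N (Coh.toGlobal (X ↘ Spec (CommRingCat.of A)) a) x v).symm.trans ?_
  rw [show Formal.smulModΓ N (Coh.toGlobal (X ↘ Spec (CommRingCat.of A)) a) = 0 from h a ha]
  exact FLI.sMap_zero x v

theorem stalk_killed_map {N : X.Modules} {J : Ideal A} (h : Formal.KilledBy J N) (x : X)
    {r : X.presheaf.stalk x} (hr : r ∈ J.map (Formal2VBLib.stalkHom A x)) (v : stk N x) : r • v = 0 := by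
  induction hr using Submodule.span_induction generalizing v with
  | mem r hr =>
    obtain ⟨a, ha, rfl⟩ := hr
    exact stalk_killed h ha x v
  | zero => rw [zero_smul]
  | add r r' _ _ hr hr' => rw [add_smul, hr, hr', add_zero]
  | smul c r _ hr => rw [smul_eq_mul, mul_smul, hr, smul_zero]

theorem subsingleton_stk {N : X.Modules} {m : ℕ} (h : Formal.KilledBy (I ^ m) N) {x : X} (hx : x ∉ locus I X) :
    Subsingleton (stk N x) := by
  rw [locus, FormalEqLib.mem_preimage_zeroLocus_iff] at hx
  push_neg at hx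
  obtain ⟨a, ha, hxa⟩ := hx
  have hu : IsUnit (Formal2VBLib.stalkHom A x (a ^ m)) := by
    rw [map_pow]
    exact ((X.toRingedSpace.mem_basicOpen (Coh.toGlobal (X ↘ Spec (CommRingCat.of A)) a) x
      (show x ∈ (⊤ : X.Opens) from trivial)).1 hxa).pow m
  exact ⟨fun v w => (hu.smul_left_cancel).1 (by
    rw [stalk_killed h (Ideal.pow_mem_pow ha m), stalk_killed h (Ideal.pow_mem_pow ha m)])⟩

theorem ger_eq_zero {N : X.Modules} {m : ℕ} (h : Formal.KilledBy (I ^ m) N) {U : X.Opens} {x : X}
    (hx : x ∉ locus I X) (hxU : x ∈ U) (s : Γ(N, U)) : ger N x hxU s = 0 :=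
  haveI := subsingleton_stk h hx
  Subsingleton.elim _ _

end Stalk

section Map

variable {X X' : Scheme.{u}} [X.Over (Spec (CommRingCat.of A))] [X'.Over (Spec (CommRingCat.of A))]
  (f : X' ⟶ X) (hf : f ≫ (X ↘ Spec (CommRingCat.of A)) = X' ↘ Spec (CommRingCat.of A))

local notation "adj" => Scheme.Modules.pullbackPushforwardAdjunction f

include hf in
theorem stalkMap_stalkHom (x' : X') (a : A) :
    f.stalkMap x' (Formal2VBLib.stalkHom A (f x') a) = Formal2VBLib.stalkHom A x' a := by
  refine (Scheme.Hom.germ_stalkMap_apply f ⊤ x' trivial _).trans ?_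
  have : Coh.toGlobal (X' ↘ Spec (CommRingCat.of A)) a = f.app ⊤ (Coh.toGlobal (X ↘ Spec (CommRingCat.of A)) a) := by
    change (X' ↘ Spec (CommRingCat.of A)).appTop _ = _
    rw [← hf]
    rfl
  exact congrArg (X'.presheaf.germ ⊤ x' trivial) this.symm

include hf in
theorem preimage_locus : f ⁻¹' locus I X = locus I X' := by
  ext x'
  simp only [locus, Set.mem_preimage]
  rw [← Scheme.Hom.comp_apply, hf]

include hf in
theorem killedBy_push {N : X'.Modules} {J : Ideal A} (h : Formal.KilledBy J N) :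
    Formal.KilledBy J ((Scheme.Modules.pushforward f).obj N) := fun a ha => by
  rw [← FormalPullLib.pushforward_smulMod f hf, h a ha, Functor.map_zero]

include hf in
theorem killedBy_pull {M : X.Modules} {J : Ideal A} (h : Formal.KilledBy J M) :
    Formal.KilledBy J ((Scheme.Modules.pullback f).obj M) := fun a ha => by
  rw [← FormalPullLib.pullback_smulMod f hf, h a ha, Functor.map_zero]

variable (I) in
/-- `f` is flat, and an isomorphism over the locus of the ideal. -/
structure FlatIso : Prop where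
  flat : Flat f
  comm : f ≫ (X ↘ Spec (CommRingCat.of A)) = X' ↘ Spec (CommRingCat.of A)
  inj : Set.InjOn f (locus I X')
  range : ∀ x ∈ locus I X, ∃ x' ∈ locus I X', f x' = x
  closed : ∀ C : Set X', IsClosed C → C ⊆ locus I X' → IsClosed (f '' C)
  surj : ∀ x' ∈ locus I X', ∀ s : X'.presheaf.stalk x', ∃ r : X.presheaf.stalk (f x'),
    s - f.stalkMap x' r ∈ I.map (Formal2VBLib.stalkHom A x')

/-- The stalk of a direct image. -/
def psi (N : X'.Modules) (x' : X') : stk ((Scheme.Modules.pushforward f).obj N) (f x') → stk N x' :=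
  fun v => (TopCat.Presheaf.stalkPushforward AddCommGrpCat.{u} f.base N.presheaf x').hom v

theorem psi_ger (N : X'.Modules) (x' : X') (V : X.Opens) (hx : f x' ∈ V) (s : Γ(N, f ⁻¹ᵁ V)) :
    psi f N x' (ger ((Scheme.Modules.pushforward f).obj N) (f x') hx s) = ger N x' hx s :=
  TopCat.Presheaf.stalkPushforward_germ_apply AddCommGrpCat.{u} f.base N.presheaf V x' hx s

theorem psi_add (N : X'.Modules) (x' : X') (v w : stk ((Scheme.Modules.pushforward f).obj N) (f x')) :
    psi f N x' (v + w) = psi f N x' v + psi f N x' w :=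
  map_add (TopCat.Presheaf.stalkPushforward AddCommGrpCat.{u} f.base N.presheaf x').hom v w

theorem psi_zero (N : X'.Modules) (x' : X') : psi f N x' 0 = 0 :=
  map_zero (TopCat.Presheaf.stalkPushforward AddCommGrpCat.{u} f.base N.presheaf x').hom

theorem psi_smul (N : X'.Modules) (x' : X') (r : X.presheaf.stalk (f x'))
    (v : stk ((Scheme.Modules.pushforward f).obj N) (f x')) :
    psi f N x' (r • v) = f.stalkMap x' r • psi f N x' v := by
  obtain ⟨V, hV, r', rfl⟩ := X.presheaf.exists_germ_eq (x := f x') r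
  obtain ⟨W, hW, s, rfl⟩ := exists_ger _ _ v
  have hx : f x' ∈ V ⊓ W := ⟨hV, hW⟩
  rw [← TopCat.Presheaf.germ_res_apply X.presheaf (homOfLE (inf_le_left : V ⊓ W ≤ V)) (f x') hx r',
    ← ger_res _ (inf_le_right : V ⊓ W ≤ W) (f x') hx s, ← ger_smul, psi_ger, psi_ger,
    Scheme.Hom.germ_stalkMap_apply]
  exact ger_smul N x' (U := f ⁻¹ᵁ (V ⊓ W)) hx _ _

variable {f}

theorem exists_nhd (h : FlatIso I f) {x' : X'} (hx : x' ∈ locus I X') (O : X'.Opens) (hO : x' ∈ O) :
    ∃ V : X.Opens, f x' ∈ V ∧ ∀ y ∈ locus I X', f y ∈ V → y ∈ O := by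
  refine ⟨⟨(f '' (locus I X' \ (O : Set X')))ᶜ, (h.closed _ (isClosed_locus.sdiff O.2) Set.diff_subset).isOpen_compl⟩,
    ?_, fun y hy hyV => ?_⟩
  · rintro ⟨z, ⟨hz, hzO⟩, hzx⟩
    exact hzO (h.inj hz hx hzx ▸ hO)
  · by_contra hyO
    exact hyV ⟨y, ⟨hy, hyO⟩, rfl⟩

theorem psi_bijective (h : FlatIso I f) {N : X'.Modules} {m : ℕ} (hN : Formal.KilledBy (I ^ m) N) {x' : X'}
    (hx : x' ∈ locus I X') : Function.Bijective (psi f N x') := by
  refine ⟨fun v w hvw => sub_eq_zero.1 ?_, fun v => ?_⟩
  · have h0 : psi f N x' (v - w) = 0 := by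
      have h1 := psi_add f N x' (v - w) w
      rw [sub_add_cancel, hvw] at h1
      exact right_eq_add.1 h1
    obtain ⟨V, hV, s, hs⟩ := exists_ger _ _ (v - w)
    rw [← hs, psi_ger] at h0
    obtain ⟨O, hxO, i₁, i₂, hO⟩ := N.presheaf.germ_eq x' (U := f ⁻¹ᵁ V) hV hV s 0
      (h0.trans (map_zero (N.presheaf.germ (f ⁻¹ᵁ V) x' hV).hom).symm)
    rw [map_zero] at hO
    obtain ⟨V', hxV', hV'⟩ := exists_nhd h hx O hxO
    have hz : res N (U := f ⁻¹ᵁ V) (V := f ⁻¹ᵁ (V ⊓ V')) (fun y hy => hy.1) s = 0 := by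
      refine ProjFormLib.section_ext _ _ fun y hy => ?_
      by_cases hyL : y ∈ locus I X'
      · have hyO : y ∈ O := hV' y hyL hy.2
        rw [ger_res]
        refine (ger_res N (leOfHom i₁) y hyO s).symm.trans ?_
        exact (congrArg (ger N y hyO) hO).trans ((CohCmpLib.ger_zero N y hyO).trans
          (CohCmpLib.ger_zero N y hy).symm)
      · rw [ger_eq_zero hN hyL, CohCmpLib.ger_zero]
    rw [← hs, ← ger_res ((Scheme.Modules.pushforward f).obj N) (inf_le_left : V ⊓ V' ≤ V) (f x')
      (show f x' ∈ V ⊓ V' from ⟨hV, hxV'⟩) s]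
    exact (congrArg (ger ((Scheme.Modules.pushforward f).obj N) (f x') (show f x' ∈ V ⊓ V' from ⟨hV, hxV'⟩)) hz).trans
      (CohCmpLib.ger_zero _ _ _)
  · obtain ⟨O, hxO, s, hs⟩ := exists_ger N x' v
    obtain ⟨V, hxV, hV⟩ := exists_nhd h hx O hxO
    let U : Bool → X'.Opens := fun b => if b then O ⊓ f ⁻¹ᵁ V else f ⁻¹ᵁ V ⊓ ⟨(locus I X')ᶜ, isClosed_locus.isOpen_compl⟩
    let σ : ∀ b, Γ(N, U b) := fun b => match b with
      | true => res N (inf_le_left : O ⊓ f ⁻¹ᵁ V ≤ O) s
      | false => 0
    have hcov : f ⁻¹ᵁ V ≤ iSup U := fun y hy => by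
      by_cases hyL : y ∈ locus I X'
      · exact Opens.mem_iSup.2 ⟨true, hV y hyL hy, hy⟩
      · exact Opens.mem_iSup.2 ⟨false, hy, hyL⟩
    have hle : ∀ b, U b ≤ f ⁻¹ᵁ V := fun b => by cases b <;> simp [U]
    have hcompat : TopCat.Presheaf.IsCompatible N.presheaf U σ := by
      intro b c
      refine ProjFormLib.section_ext _ _ fun y hy => ?_
      by_cases hbc : b = c
      · subst hbc; rfl
      · have hyL : y ∉ locus I X' := by
          cases b <;> cases c <;> first | exact absurd rfl hbc | exact hy.1.2 | exact hy.2.2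
        rw [ger_eq_zero hN hyL, ger_eq_zero hN hyL]
    obtain ⟨g, hg, -⟩ := TopCat.Sheaf.existsUnique_gluing' ((QCohLib.toAbF X').obj N : TopCat.Sheaf AddCommGrpCat.{u} X'.toTopCat)
      U (f ⁻¹ᵁ V) (fun b => homOfLE (hle b)) hcov σ hcompat
    refine ⟨ger ((Scheme.Modules.pushforward f).obj N) (f x') hxV g, ?_⟩
    rw [psi_ger, ← hs]
    have h1 := congrArg (ger N x' (U := U true) ⟨hxO, hxV⟩) (hg true)
    refine ((ger_res N (hle true) x' ⟨hxO, hxV⟩ g).symm.trans h1).trans ?_
    exact ger_res N (inf_le_left : O ⊓ f ⁻¹ᵁ V ≤ O) x' ⟨hxO, hxV⟩ s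

theorem map_stalkHom_le (h : FlatIso I f) (x' : X') (J : Ideal A) :
    (J.map (Formal2VBLib.stalkHom A (f x'))).map (f.stalkMap x').hom = J.map (Formal2VBLib.stalkHom A x') := by
  rw [Ideal.map_map]
  congr 1
  ext a
  exact stalkMap_stalkHom f h.comm x' a

/-- The unit, on stalks. -/
theorem psi_unit_bijective (h : FlatIso I f) {M : X.Modules} {m : ℕ} (hM : Formal.KilledBy (I ^ m) M) {x' : X'}
    (hx : x' ∈ locus I X') :
    Function.Bijective fun v : stk M (f x') =>
      psi f ((Scheme.Modules.pullback f).obj M) x' (FLI.sMap ((adj).unit.app M) (f x') v) := by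
  letI := (f.stalkMap x').hom.toAlgebra
  haveI := h.flat
  haveI : Module.Flat (X.presheaf.stalk (f x')) (X'.presheaf.stalk x') := Flat.stalkMap f x'
  haveI : IsLocalHom (algebraMap (X.presheaf.stalk (f x')) (X'.presheaf.stalk x')) :=
    inferInstanceAs (IsLocalHom (f.stalkMap x').hom)
  haveI : Module.FaithfullyFlat (X.presheaf.stalk (f x')) (X'.presheaf.stalk x') :=
    Module.FaithfullyFlat.of_flat_of_isLocalHom
  have hb := bijective_mk_one (S := X'.presheaf.stalk x') (M := stk M (f x'))
    (I.map (Formal2VBLib.stalkHom A (f x'))) (fun s => by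
      obtain ⟨r, hr⟩ := h.surj x' hx s
      refine ⟨r, ?_⟩
      rw [RingHom.algebraMap_toAlgebra, map_stalkHom_le h]
      exact hr) m (fun r hr v => by
      rw [← Ideal.map_pow] at hr
      exact stalk_killed_map hM (f x') hr v)
  let e := ((KFlatLib.stalkPullIso f x').symm.app M).toLinearEquiv
  suffices hfun : (fun v : stk M (f x') =>
      psi f ((Scheme.Modules.pullback f).obj M) x' (FLI.sMap ((adj).unit.app M) (f x') v)) =
      fun v => e ((1 : X'.presheaf.stalk x') ⊗ₜ[X.presheaf.stalk (f x')] v) from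
    hfun ▸ e.bijective.comp hb
  funext v
  obtain ⟨U, hU, s, rfl⟩ := exists_ger M (f x') v
  refine (congrArg (psi f ((Scheme.Modules.pullback f).obj M) x') (ger_map ((adj).unit.app M) (f x') hU s)).trans ?_
  refine (psi_ger f ((Scheme.Modules.pullback f).obj M) x' U hU (KFlatLib.puSec f s)).trans ?_
  exact (KFlatLib.stalkPullInv_germ f M x' hU s).symm

theorem bijective_of_subsingleton {α β : Type*} [Zero α] [Subsingleton α] [Subsingleton β] (g : α → β) :
    Function.Bijective g :=
  ⟨fun a b _ => Subsingleton.elim a b, fun b => ⟨0, Subsingleton.elim _ _⟩⟩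

theorem isIso_of_bijective {Z : Scheme.{u}} {M N : Z.Modules} (φ : M ⟶ N)
    (h : ∀ z : Z, Function.Bijective (FLI.sMap φ z)) : IsIso φ :=
  KFlatLib.isIso_of_stalks φ fun z => (ConcreteCategory.isIso_iff_bijective _).2 (h z)

/-- The unit is an isomorphism on modules killed by a power of the ideal. -/
theorem isIso_unit (h : FlatIso I f) {M : X.Modules} {m : ℕ} (hM : Formal.KilledBy (I ^ m) M) :
    IsIso ((adj).unit.app M) := by
  refine isIso_of_bijective _ fun x => ?_
  have hk : Formal.KilledBy (I ^ m) ((𝟭 X.Modules).obj M) := hM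
  by_cases hx : x ∈ locus I X
  · obtain ⟨x', hx', rfl⟩ := h.range x hx
    exact (Function.Bijective.of_comp_iff' (psi_bijective h (killedBy_pull f h.comm hM) hx') _).1
      (psi_unit_bijective h hM hx')
  · haveI := subsingleton_stk hk hx
    haveI : Subsingleton (stk ((Scheme.Modules.pullback f ⋙ Scheme.Modules.pushforward f).obj M) x) :=
      subsingleton_stk (killedBy_push f h.comm (killedBy_pull f h.comm hM)) hx
    exact bijective_of_subsingleton _

/-- The counit is an isomorphism on modules killed by a power of the ideal. -/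
theorem isIso_counit (h : FlatIso I f) {N : X'.Modules} {m : ℕ} (hN : Formal.KilledBy (I ^ m) N) :
    IsIso ((adj).counit.app N) := by
  let P := (Scheme.Modules.pushforward f).obj N
  have hP : Formal.KilledBy (I ^ m) P := killedBy_push f h.comm hN
  haveI := isIso_unit h hP
  haveI : IsIso ((Scheme.Modules.pushforward f).map ((adj).counit.app N)) := by
    have := (adj).right_triangle_components N
    exact IsIso.of_isIso_fac_left this
  refine isIso_of_bijective _ fun x' => ?_
  have hk : Formal.KilledBy (I ^ m) ((𝟭 X'.Modules).obj N) := hN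
  have hQ : Formal.KilledBy (I ^ m) ((Scheme.Modules.pushforward f ⋙ Scheme.Modules.pullback f).obj N) :=
    killedBy_pull f h.comm hP
  by_cases hx : x' ∈ locus I X'
  · have hcomm : ∀ v, psi f N x' (FLI.sMap ((Scheme.Modules.pushforward f).map ((adj).counit.app N)) (f x') v) =
        FLI.sMap ((adj).counit.app N) x' (psi f _ x' v) := fun v => by
      obtain ⟨U, hU, s, rfl⟩ := exists_ger _ _ v
      refine (congrArg (psi f N x') (ger_map ((Scheme.Modules.pushforward f).map ((adj).counit.app N)) (f x') hU s)).trans ?_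
      refine (psi_ger f N x' U hU _).trans ?_
      refine Eq.trans ?_ (congrArg (FLI.sMap ((adj).counit.app N) x') (psi_ger f _ x' U hU s)).symm
      exact (ger_map ((adj).counit.app N) x' (U := f ⁻¹ᵁ U) hU s).symm
    have hb : Function.Bijective (FLI.sMap ((Scheme.Modules.pushforward f).map ((adj).counit.app N)) (f x')) :=
      ConcreteCategory.bijective_of_isIso _
    have h1 : Function.Bijective fun v =>
        psi f N x' (FLI.sMap ((Scheme.Modules.pushforward f).map ((adj).counit.app N)) (f x') v) :=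
      (psi_bijective h hk hx).comp hb
    rw [funext hcomm] at h1
    exact (Function.Bijective.of_comp_iff _ (psi_bijective h hQ hx)).1 h1
  · haveI := subsingleton_stk hk hx
    haveI := subsingleton_stk hQ hx
    exact bijective_of_subsingleton _

/-- Direct images of coherent modules killed by a power of the ideal are coherent. -/
theorem isCoh_push [IsNoetherian X] [IsNoetherian X'] (h : FlatIso I f) {N : X'.Modules} (hN : Coh.IsCoh N)
    {m : ℕ} (hk : Formal.KilledBy (I ^ m) N) : Coh.IsCoh ((Scheme.Modules.pushforward f).obj N) := by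
  classical
  haveI := hN.1
  let P := (Scheme.Modules.pushforward f).obj N
  refine ⟨QCohLib.isQCoh_pushforward f N, QCohLib.isFT_of_forall fun x => ?_⟩
  have hPk : Formal.KilledBy (I ^ m) P := killedBy_push f h.comm hk
  by_cases hx : x ∈ locus I X
  swap
  · refine ⟨⟨(locus I X)ᶜ, isClosed_locus.isOpen_compl⟩, hx, 0, fun _ => 0,
      Groth.Agent.S2297.genOn_of_stalk P _ fun y hy v => ?_⟩
    haveI : Subsingleton (stk P y) := subsingleton_stk hPk hy
    rw [show v = (0 : stk P y) from Subsingleton.elim (α := stk P y) _ _]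
    exact Submodule.zero_mem _
  obtain ⟨x₀, hx₀, rfl⟩ := h.range x hx
  obtain ⟨U, n, e, hxU, -, he⟩ := MiscFlat6.exists_spanning_nhd hN.2 x₀
  choose w hw using fun j => (psi_bijective h hk hx₀).2 (ger N x₀ hxU (e j))
  choose W hxW t ht using fun j => exists_ger P (f x₀) (w j)
  let V₀ : X.Opens := Finset.univ.inf W
  have hx₀V : f x₀ ∈ V₀ := Finset.inf_induction (p := fun T : X.Opens => f x₀ ∈ T) trivial
    (fun _ h₁ _ h₂ => ⟨h₁, h₂⟩) fun j _ => hxW j
  have hVW : ∀ j, V₀ ≤ W j := fun j => Finset.inf_le (Finset.mem_univ j)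
  -- agreement of the lifted sections with the generators near `x₀`
  have hag : ∀ j, ∃ O : X'.Opens, x₀ ∈ O ∧ ∀ (y : X') (hyO : y ∈ O), ∀ (hyW : f y ∈ W j) (hyU : y ∈ U),
      ger N y (U := f ⁻¹ᵁ W j) hyW (t j) = ger N y hyU (e j) := fun j => by
    have h1 : ger N x₀ (U := f ⁻¹ᵁ W j) (hxW j) (t j) = ger N x₀ hxU (e j) := by
      rw [← psi_ger f N x₀ (W j) (hxW j) (t j), ht j, hw j]
    obtain ⟨O, hxO, i₁, i₂, hO⟩ := N.presheaf.germ_eq x₀ (hxW j) hxU (t j) (e j) h1
    refine ⟨O, hxO, fun y hyO hyW hyU => ?_⟩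
    exact (ger_res N (leOfHom i₁) y hyO (t j)).symm.trans
      ((congrArg (ger N y hyO) hO).trans (ger_res N (leOfHom i₂) y hyO (e j)))
  choose O hxO hO using hag
  let U' : X'.Opens := U ⊓ Finset.univ.inf O
  have hx₀U' : x₀ ∈ U' := ⟨hxU, Finset.inf_induction (p := fun T : X'.Opens => x₀ ∈ T) trivial
    (fun _ h₁ _ h₂ => ⟨h₁, h₂⟩) fun j _ => hxO j⟩
  obtain ⟨V₁, hxV₁, hV₁⟩ := exists_nhd h hx₀ U' hx₀U'
  let V := V₀ ⊓ V₁
  refine ⟨V, ⟨hx₀V, hxV₁⟩, n, fun j => res P (inf_le_left.trans (hVW j.down)) (t j.down),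
    Groth.Agent.S2297.genOn_of_stalk P _ fun y hy v => ?_⟩
  by_cases hyL : y ∈ locus I X
  swap
  · haveI : Subsingleton (stk P y) := subsingleton_stk hPk hyL
    rw [show v = (0 : stk P y) from Subsingleton.elim (α := stk P y) _ _]
    exact Submodule.zero_mem _
  obtain ⟨y', hy', rfl⟩ := h.range y hyL
  have hyU' : y' ∈ U' := hV₁ y' hy' hy.2
  let G : Submodule (X.presheaf.stalk (f y')) (stk P (f y')) :=
    Submodule.span (X.presheaf.stalk (f y'))
      (Set.range fun j : ULift.{u} (Fin n) => ger P (f y') hy (res P (inf_le_left.trans (hVW j.down)) (t j.down)))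
  show v ∈ G
  let T : AddSubgroup (stk N y') :=
    { carrier := psi f N y' '' (G : Set (stk P (f y')))
      zero_mem' := ⟨0, G.zero_mem, psi_zero f N y'⟩
      add_mem' := by
        rintro _ _ ⟨a, ha, rfl⟩ ⟨b, hb, rfl⟩
        exact ⟨a + b, G.add_mem ha hb, psi_add f N y' a b⟩
      neg_mem' := by
        rintro _ ⟨a, ha, rfl⟩
        refine ⟨-a, G.neg_mem ha, eq_neg_of_add_eq_zero_left ?_⟩
        rw [← psi_add, neg_add_cancel, psi_zero] }
  have hT : ∀ (r : X.presheaf.stalk (f y')), ∀ z ∈ T, (f.stalkMap y').hom r • z ∈ T := by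
    rintro r _ ⟨a, ha, rfl⟩
    exact ⟨r • a, G.smul_mem r ha, psi_smul f N y' r a⟩
  have hgen : ∀ j : Fin n, ger N y' hyU'.1 (e j) ∈ T := fun j => by
    refine ⟨_, Submodule.subset_span ⟨⟨j⟩, rfl⟩, ?_⟩
    show psi f N y' (ger P (f y') hy (res P (inf_le_left.trans (hVW j)) (t j))) = _
    rw [ger_res]
    refine (psi_ger f N y' (W j) _ (t j)).trans ?_
    exact hO j y' ((Finset.inf_le (Finset.mem_univ j) : Finset.univ.inf O ≤ O j) hyU'.2) _ _
  have hall : psi f N y' v ∈ T := by
    obtain ⟨c, hc⟩ := he y' hyU'.1 (psi f N y' v)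
    rw [← hc, Fintype.linearCombination_apply]
    refine T.sum_mem fun j _ => ?_
    refine smul_mem_of_killed (f.stalkMap y').hom (I.map (Formal2VBLib.stalkHom A (f y'))) (fun s => ?_) T hT m
      _ (hgen j) (fun r hr => ?_) (c j)
    · obtain ⟨r, hr⟩ := h.surj y' hy' s
      exact ⟨r, (map_stalkHom_le h y' I).symm ▸ hr⟩
    · rw [← Ideal.map_pow] at hr
      refine stalk_killed_map hk y' ?_ _
      rw [← map_stalkHom_le h]
      exact Ideal.mem_map_of_mem _ hr
  obtain ⟨a, ha, hav⟩ := hall
  rwa [(psi_bijective h hk hy').1 hav] at ha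

/-- The hypothesis from the reduction being an isomorphism. -/
theorem flatIso_of_isIso [Flat f] (hf : f ≫ (X ↘ Spec (CommRingCat.of A)) = X' ↘ Spec (CommRingCat.of A))
    (hZ : IsIso (pullback.map (X' ↘ Spec (CommRingCat.of A)) (CohB1.specQuot I 0)
      (X ↘ Spec (CommRingCat.of A)) (CohB1.specQuot I 0) f (𝟙 _) (𝟙 _)
      ((Category.comp_id _).trans hf.symm) ((Category.comp_id _).trans (Category.id_comp _).symm))) :
    FlatIso I f := by
  haveI := hZ
  haveI := ProperClopenLib.isClosedImmersion_specQuot I 0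
  let g := pullback.fst (X' ↘ Spec (CommRingCat.of A)) (CohB1.specQuot I 0)
  let k := pullback.fst (X ↘ Spec (CommRingCat.of A)) (CohB1.specQuot I 0)
  have hgf : g ≫ f = pullback.map (X' ↘ Spec (CommRingCat.of A)) (CohB1.specQuot I 0)
      (X ↘ Spec (CommRingCat.of A)) (CohB1.specQuot I 0) f (𝟙 _) (𝟙 _)
      ((Category.comp_id _).trans hf.symm) ((Category.comp_id _).trans (Category.id_comp _).symm) ≫ k :=
    (pullback.lift_fst _ _ _).symm
  haveI hci : IsClosedImmersion (g ≫ f) := hgf ▸ inferInstance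
  have hI1 : I ^ (0 + 1) = I := by rw [zero_add, pow_one]
  have hrq : Set.range (CohB1.specQuot I 0) = PrimeSpectrum.zeroLocus (I : Set A) := by
    refine Eq.trans (range_comap_of_surjective _ (Ideal.Quotient.mk (I ^ (0 + 1))) Ideal.Quotient.mk_surjective) ?_
    rw [Ideal.mk_ker, hI1]
  have hrg : Set.range g = locus I X' := by
    rw [Scheme.Pullback.range_fst, hrq]; rfl
  refine ⟨‹_›, hf, ?_, fun x hx => ?_, fun C hC hCL => ?_, fun x' hx' s => ?_⟩
  · intro a ha b hb hab
    obtain ⟨a', rfl⟩ := hrg.ge ha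
    obtain ⟨b', rfl⟩ := hrg.ge hb
    exact congrArg g ((g ≫ f).isClosedEmbedding.injective
      ((Scheme.Hom.comp_apply g f a').trans (hab.trans (Scheme.Hom.comp_apply g f b').symm)))
  · obtain ⟨z, rfl⟩ : x ∈ Set.range k := by
      rw [Scheme.Pullback.range_fst, hrq]; exact hx
    obtain ⟨z', rfl⟩ := (pullback.map (X' ↘ Spec (CommRingCat.of A)) (CohB1.specQuot I 0)
      (X ↘ Spec (CommRingCat.of A)) (CohB1.specQuot I 0) f (𝟙 _) (𝟙 _)
      ((Category.comp_id _).trans hf.symm) ((Category.comp_id _).trans (Category.id_comp _).symm)).surjective z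
    refine ⟨g z', hrg.le ⟨z', rfl⟩, ?_⟩
    rw [← Scheme.Hom.comp_apply, hgf, Scheme.Hom.comp_apply]
  · have : f '' C = (g ≫ f) '' (g ⁻¹' C) := by
      rw [show ((g ≫ f : _ ⟶ X) : _ → X) = f ∘ g from funext fun z => Scheme.Hom.comp_apply g f z, Set.image_comp,
        Set.image_preimage_eq_of_subset (hCL.trans hrg.ge)]
    rw [this]
    exact (g ≫ f).isClosedEmbedding.isClosedMap _ (hC.preimage g.continuous)
  · obtain ⟨z, rfl⟩ := hrg.ge hx'
    obtain ⟨r, hr⟩ := (g ≫ f).stalkMap_surjective z (g.stalkMap z s)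
    refine ⟨r, ?_⟩
    rw [Scheme.Hom.stalkMap_comp] at hr
    have hker : s - f.stalkMap (g z) r ∈ RingHom.ker (g.stalkMap z).hom := by
      rw [RingHom.mem_ker, map_sub, sub_eq_zero]
      exact hr.symm
    rw [← DiagTorLib.stalkIdeal_ker, show g.ker = FormalCohLib.idSheaf I ^ (0 + 1) from
      FormalCohLib.ker_thickι (X := X') I 0] at hker
    obtain ⟨W, hW, hzW⟩ := QCohLib.exists_affine_nhd (g z)
    rw [SDivLib.stalkIdeal_eq _ ⟨W, hW⟩ hzW, FormalCohLib.idSheaf_pow_ideal,
      show FormalCohLib.idU I W ^ (0 + 1) = FormalCohLib.idU I W from pow_one _] at hker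
    rw [FormalCohLib.idU, Ideal.map_map, show ((X'.presheaf.germ W (g z) hzW).hom.comp (FormalLib.rhoA A W)) =
      Formal2VBLib.stalkHom A (g z) from RingHom.ext fun a =>
        TopCat.Presheaf.germ_res_apply X'.presheaf _ _ hzW _] at hker
    exact hker

end Map

end FormalFlatEquivLib
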